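import Groth.Agent.Lib.ResDescend36.Boundary2
import Groth.Agent.Lib.TensorMod.Invertible
import Groth.Agent.Lib.Perfect.Coherent

/-!
# Maps from tensor powers of coherent boundary functionals
-/

set_option autoImplicit false
set_option linter.style.haveILetI false
universe u

open CategoryTheory CategoryTheory.Limits AlgebraicGeometry Opposite TopologicalSpace
open Groth.Agent.Lib Groth.Agent.Lib.Modules.StalkModule Groth.Agent.Lib.Modules.SubStalk
open Groth.Agent.Lib.ResDescend36.Boundary
open Groth.Agent.Lib.Ample.GG (gm gm_rs)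
open Groth.Agent.Lib.TensorMod.Basic (tmap)
open Groth.Agent.Lib.ResDescend36.Boundary Groth.Agent.Lib.ResDescend36.Boundary2
open Groth.Agent.Lib.Ample.GG (mem_of_tmul gm_smul rs_pairM)
open Groth.Agent.Lib.TensorMod.Dual (rs)
open Groth.Agent.Lib.TensorMod.Gen (one)
open Groth.Agent.Lib.TensorMod.Basic (tmap)
open Groth.Agent.Lib.TensorMod.Free (pairM)

namespace Groth.Agent.H18.TPowGen

open Groth.Agent.Lib

noncomputable section

variable {X : Scheme.{u}}

lemma isCoh_tensor {A B : X.Modules} (hA : Coh.IsCoh A) (hB : Coh.IsCoh B) :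
    Coh.IsCoh (CohB1.tensorMod A B) := by
  haveI := hA.1
  haveI := hB.1
  haveI : SheafOfModules.IsFiniteType (R := X.ringCatSheaf) A := hA.2
  haveI : SheafOfModules.IsFiniteType (R := X.ringCatSheaf) B := hB.2
  exact ⟨TensorMod.TensorQCoh.isQCoh_tensorMod _ _, TensorMod.TensorQCoh.isFiniteType_tensorMod _ _⟩

lemma isCoh_structure : Coh.IsCoh (Coh.structureModule X) :=
  Ample.GG.isCoh_of_isInvertible (ParaF.Pair.isInvertible_structureModule X)

lemma isCoh_pw {E : X.Modules} (hE : Coh.IsCoh E) (σ : E ⟶ Coh.structureModule X) :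
    ∀ n, Coh.IsCoh (pw σ n).1
  | 0 => isCoh_structure
  | n + 1 => isCoh_tensor hE (isCoh_pw hE σ n)

/-- A finite type module vanishing where `σ` is surjective is killed by a tensor power of `σ`. -/
theorem exists_tmap_eq_zero [CompactSpace X] (U : X.Opens) {E : X.Modules}
    (hE : Coh.IsCoh E) (σ : E ⟶ Coh.structureModule X)
    (hσ : ∀ x, Function.Surjective (stalkMapₗ σ x) → x ∈ U)
    (C : X.Modules) [C.IsQuasicoherent] (hC : ∀ W : X.affineOpens, Module.Finite Γ(X, W.1) Γ(C, W.1))
    (hCU : ∀ x ∈ U, ∀ v : C.presheaf.stalk x, v = 0) :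
    ∃ n : ℕ, tmap (𝟙 C) (pw σ n).2 = 0 := by
  classical
  haveI : E.IsQuasicoherent := hE.1
  -- the ideal of values of `σ`
  let a : ∀ W : X.affineOpens, Γ(E, W.1) → Γ(X, W.1) := fun W e => σ.app W.1 e
  let A : ∀ W : X.affineOpens, Ideal Γ(X, W.1) := fun W => Ideal.span (Set.range (a W))
  have hA : ∀ W, (A W).FG := fun W => by
    haveI := CohBasics.Closure.finite_sections (M := E) hE W.2
    obtain ⟨k, g, hg⟩ := Module.Finite.exists_fin (R := Γ(X, W.1)) (M := Γ(E, W.1))
    refine ⟨Finset.univ.image fun i => a W (g i), le_antisymm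
      (Ideal.span_mono fun y hy => ?_) (Ideal.span_le.2 ?_)⟩
    · simp only [Finset.coe_image, Finset.coe_univ, Set.image_univ, Set.mem_range] at hy
      obtain ⟨i, rfl⟩ := hy
      exact ⟨g i, rfl⟩
    · rintro _ ⟨e, rfl⟩
      induction (hg.ge (Submodule.mem_top (x := e))) using Submodule.span_induction with
      | mem y hy => obtain ⟨i, rfl⟩ := hy; exact Ideal.subset_span (by simp)
      | zero => rw [show a W 0 = 0 from map_zero (σ.app W.1).hom]; exact zero_mem _
      | add y z _ _ hy hz =>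
        rw [show a W (y + z) = a W y + a W z from map_add (σ.app W.1).hom y z]
        exact add_mem hy hz
      | smul r y _ hy =>
        rw [show a W (r • y) = r * a W y from Scheme.Modules.Hom.app_smul σ r y]
        exact Ideal.mul_mem_left _ _ hy
  have hkill : ∀ W : X.affineOpens, ∃ m : ℕ, ∀ r ∈ A W ^ m, ∀ c : Γ(C, W.1), r • c = 0 := fun W => by
    haveI := hC W
    let Ann := Module.annihilator Γ(X, W.1) Γ(C, W.1)
    have hrad : A W ≤ Ideal.radical Ann := by
      rw [Ideal.span_le]
      rintro _ ⟨e, rfl⟩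
      obtain ⟨T, hT⟩ := (hC W).fg_top
      have h1 : ∀ c : Γ(C, W.1), ∃ N : ℕ, a W e ^ N • c = 0 := fun c => by
        refine (QCoh.Localizing.localizes_of_isAffineOpen C W.2 (a W e)).sep c
          (Modules.Support.eq_zero_of_germ_eq_zero _ fun x hx _ => hCU x (hσ x ?_) _)
        intro v
        have hxW : x ∈ W.1 := X.basicOpen_le _ hx
        obtain ⟨V, hxV, r, rfl⟩ := TopCat.Presheaf.exists_germ_eq (Coh.structureModule X).presheaf v
        obtain ⟨u', hu'⟩ := (X.mem_basicOpen (a W e) x hxW).1 hx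
        refine ⟨(X.presheaf.germ V x hxV r * u'⁻¹.1) • gm hxW e, ?_⟩
        rw [map_smul, stalkMapₗ_germ]
        change _ • gm hxW (show Γ(Coh.structureModule X, W.1) from a W e) = _
        rw [TensorMod.Gen.smul_one_eq (a W e), gm_smul, ← mul_smul, ← hu', mul_assoc,
          Units.inv_mul, mul_one]
        refine Eq.trans ?_ (congrArg (gm hxV) (TensorMod.Gen.smul_one_eq r).symm)
        refine Eq.trans ?_ (gm_smul hxV (show Γ(X, V) from r) (one X V)).symm
        refine congrArg (X.presheaf.germ V x hxV r • ·) ?_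
        refine ((gm_rs (inf_le_left : W.1 ⊓ V ≤ W.1) ⟨hxW, hxV⟩ _).symm.trans ?_).trans
          (gm_rs (inf_le_right : W.1 ⊓ V ≤ V) ⟨hxW, hxV⟩ _)
        exact congrArg (gm _) ((map_one (X.presheaf.map _).hom).trans (map_one (X.presheaf.map _).hom).symm)
      choose N hN using h1
      refine ⟨T.sup N, Module.mem_annihilator.2 fun c => ?_⟩
      induction (hT.ge (Submodule.mem_top (x := c))) using Submodule.span_induction with
      | mem y hy =>
        obtain ⟨d, hd⟩ := Nat.exists_eq_add_of_le (Finset.le_sup (f := N) hy)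
        rw [hd, add_comm, pow_add, mul_smul, hN y, smul_zero]
      | zero => rw [smul_zero]
      | add y z _ _ hy hz => rw [smul_add, hy, hz, add_zero]
      | smul r y _ hy => rw [smul_comm, hy, smul_zero]
    obtain ⟨m, hm⟩ := Ideal.exists_pow_le_of_le_radical_of_fg hrad (hA W)
    exact ⟨m, fun r hr => Module.mem_annihilator.1 (hm hr)⟩
  choose m hm using hkill
  obtain ⟨s, hs, hcov⟩ := isCompact_and_isOpen_iff_finite_and_eq_biUnion_affineOpens.mp
    (⟨isCompact_univ, isOpen_univ⟩ : IsCompact (Set.univ : Set X) ∧ IsOpen (Set.univ : Set X))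
  refine ⟨hs.toFinset.sup m, Modules.Stalk.hom_ext_stalk fun x => ?_⟩
  obtain ⟨W, hW, hxW⟩ := Set.mem_iUnion₂.mp (hcov ▸ Set.mem_univ x)
  set n := hs.toFinset.sup m with hn
  let Ax : Ideal (X.presheaf.stalk x) := (A W).map (X.presheaf.germ W.1 x hxW).hom
  let v₁ : (Coh.structureModule X).presheaf.stalk x := gm (show x ∈ (⊤ : X.Opens) from trivial) (one X ⊤)
  let q := LinearMap.toSpanSingleton (X.presheaf.stalk x) _ v₁
  have hone : ∀ {V : X.Opens} (hxV : x ∈ V), gm hxV (one X V) = v₁ := fun {V} hxV => by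
    refine Eq.trans (congrArg (gm hxV) ?_) (gm_rs (le_top : V ≤ ⊤) hxV _)
    exact (map_one (X.presheaf.map (homOfLE (le_top : V ≤ ⊤)).op).hom).symm
  have hrange : ∀ k, LinearMap.range (stalkMapₗ (pw σ k).2 x) ≤ Submodule.map q (Ax ^ k) := by
    intro k
    induction k with
    | zero =>
      rintro _ ⟨v, rfl⟩
      change (Coh.structureModule X).presheaf.stalk x at v
      obtain ⟨V, hxV, r, rfl⟩ := TopCat.Presheaf.exists_germ_eq (Coh.structureModule X).presheaf v
      refine ⟨X.presheaf.germ V x hxV r, by simp, ?_⟩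
      change X.presheaf.germ V x hxV r • v₁ = stalkMapₗ (𝟙 (Coh.structureModule X)) x _
      rw [stalkMapₗ_id, LinearMap.id_apply, ← hone hxV]
      exact (gm_smul hxV (show Γ(X, V) from r) (one X V)).symm.trans
        (congrArg (gm hxV) (TensorMod.Gen.smul_one_eq r).symm)
    | succ k ih =>
      rw [pow_succ']
      refine range_mul_le σ (pw σ k).2 (show x ∈ (⊤ : X.Opens) from trivial) Ax (Ax ^ k) ?_ ih
      rintro _ ⟨v, rfl⟩
      have hspan := CohBasics.Affine.germ_span_eq_top W.2 (Set.univ : Set Γ(E, W.1))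
        Submodule.span_univ hxW
      induction (hspan.ge (Submodule.mem_top (x := v))) using Submodule.span_induction with
      | mem y hy =>
        obtain ⟨t, -, rfl⟩ := hy
        refine ⟨_, Ideal.mem_map_of_mem _ (Ideal.subset_span ⟨t, rfl⟩), ?_⟩
        rw [stalkMapₗ_germ, LinearMap.toSpanSingleton_apply]
        refine Eq.trans (congrArg (_ • ·) (hone hxW).symm) ?_
        exact ((congrArg (gm hxW) (TensorMod.Gen.smul_one_eq (a W t))).trans (gm_smul hxW _ _)).symm
      | zero => rw [map_zero]; exact zero_mem _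
      | add y z _ _ hy hz => rw [map_add]; exact add_mem hy hz
      | smul r y _ hy => rw [map_smul]; exact Submodule.smul_mem _ r hy
  have hzero : ∀ b ∈ Ax ^ n, ∀ c : C.presheaf.stalk x, b • c = 0 := by
    intro b hb c
    have hspan := CohBasics.Affine.germ_span_eq_top W.2 (Set.univ : Set Γ(C, W.1))
      Submodule.span_univ hxW
    induction (hspan.ge (Submodule.mem_top (x := c))) using Submodule.span_induction with
    | mem y hy =>
      obtain ⟨t, -, rfl⟩ := hy
      rw [← Ideal.map_pow] at hb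
      induction hb using Submodule.span_induction with
      | mem z hz =>
        obtain ⟨r, hr, rfl⟩ := hz
        refine ((gm_smul hxW r t).symm.trans ?_)
        rw [hm W r (Ideal.pow_le_pow_right (Finset.le_sup (hs.mem_toFinset.2 hW)) hr) t, gm, map_zero]
      | zero => rw [zero_smul]
      | add y z _ _ hy hz => rw [add_smul, hy, hz, add_zero]
      | smul r y _ hy => rw [smul_eq_mul, mul_smul, hy, smul_zero]
    | zero => rw [smul_zero]
    | add y z _ _ hy hz => rw [smul_add, hy, hz, add_zero]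
    | smul r y _ hy => rw [smul_comm, hy, smul_zero]
  suffices h : stalkMapₗ (tmap (𝟙 C) (pw σ n).2) x = 0 by
    ext v
    exact (LinearMap.congr_fun h v).trans (LinearMap.congr_fun (stalkMapₗ_zero (M := _) (N := _) x) v).symm
  rw [← LinearMap.ker_eq_top]
  refine mem_of_tmul _ fun V hxV c e => ?_
  rw [LinearMap.mem_ker, stalkMapₗ_germ, ← TensorMod.Free.pairM_comp, Category.id_comp,
    TensorMod.Free.pairM_tmap]
  obtain ⟨b, hb, hbe⟩ := hrange n ⟨gm hxV e, rfl⟩
  obtain ⟨V', hxV', b', rfl⟩ := TopCat.Presheaf.exists_germ_eq X.presheaf b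
  obtain ⟨V'', hxV'', i, j, hbc⟩ := TopCat.Presheaf.germ_eq C.presheaf x
    (show x ∈ V ⊓ V' from ⟨hxV, hxV'⟩) (show x ∈ V ⊓ V' from ⟨hxV, hxV'⟩)
    (QCoh.Localizing.resR inf_le_right b' • rs C inf_le_left c) 0 (by
      rw [map_zero]
      refine (gm_smul _ _ _).trans ?_
      rw [TopCat.Presheaf.germ_res_apply]
      exact hzero _ hb _)
  obtain ⟨V3, hxV3, k, l, hse⟩ := TopCat.Presheaf.germ_eq (Coh.structureModule X).presheaf x
    (show x ∈ V'' from hxV'') (show x ∈ V'' from hxV'')
    (rs _ (i.le.trans inf_le_left) ((pw σ n).2.app V e))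
    (QCoh.Localizing.resR i.le (QCoh.Localizing.resR inf_le_right b') • one X V'') (by
      refine ((gm_rs _ hxV'' _).trans ?_).trans (gm_smul hxV'' _ _).symm
      rw [TopCat.Presheaf.germ_res_apply, TopCat.Presheaf.germ_res_apply, hone]
      exact (stalkMapₗ_germ _ hxV e).symm.trans hbe.symm)
  obtain rfl : i = j := Subsingleton.elim _ _
  obtain rfl : k = l := Subsingleton.elim _ _
  have hse' : rs _ k.le (rs _ (i.le.trans inf_le_left) ((pw σ n).2.app V e)) =
      rs _ k.le (QCoh.Localizing.resR i.le (QCoh.Localizing.resR inf_le_right b') • one X V'') := hse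
  have hbc' : rs C i.le (QCoh.Localizing.resR inf_le_right b' • rs C inf_le_left c) = 0 :=
    hbc.trans (map_zero _)
  let r3 : Γ(X, V3) :=
    QCoh.Localizing.resR k.le (QCoh.Localizing.resR i.le (QCoh.Localizing.resR inf_le_right b'))
  have hle : V3 ≤ V := k.le.trans (i.le.trans inf_le_left)
  have h1 : rs _ hle ((pw σ n).2.app V e) = r3 • rs (Coh.structureModule X) k.le (one X V'') := by
    rw [← TensorMod.Dual.rs_rs _ (h := i.le.trans inf_le_left) (h' := k.le), hse']
    exact QCoh.Localizing.res_smul k.le _ _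
  have h2 : r3 • rs C hle c = 0 := by
    rw [← TensorMod.Dual.rs_rs _ (h := i.le.trans inf_le_left) (h' := k.le),
      ← TensorMod.Dual.rs_rs _ (h := (inf_le_left : V ⊓ V' ≤ V)) (h' := i.le)]
    refine (QCoh.Localizing.res_smul k.le _ _).symm.trans ?_
    change rs C k.le (_ • rs C i.le (rs C inf_le_left c)) = 0
    rw [show QCoh.Localizing.resR i.le (QCoh.Localizing.resR inf_le_right b') • rs C i.le
      (rs C inf_le_left c) = 0 from (QCoh.Localizing.res_smul i.le _ _).symm.trans hbc']
    exact map_zero _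
  show gm hxV _ = 0
  rw [← gm_rs hle hxV3, rs_pairM, h1, TensorMod.Pullback.pairM_smul_right,
    ← TensorMod.Pullback.pairM_smul_left]
  change gm hxV3 (pairM _ (r3 • rs C hle ((𝟙 C : C ⟶ C).app V c)) _) = 0
  rw [Scheme.Modules.Hom.id_app, ConcreteCategory.id_apply, h2]
  rw [show (0 : Γ(C, V3)) = (0 : Γ(X, V3)) • (0 : Γ(C, V3)) from (zero_smul _ _).symm,
    TensorMod.Pullback.pairM_smul_left, zero_smul, gm, map_zero]

/-- If `σ : E ⟶ O` is surjective exactly on the affine open `U`, a finite type quasi-coherent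
module receives a map from a finite locally free module which is surjective over `U`. -/
theorem exists_surjective_on' [IsNoetherian X] {U : X.Opens} (hU : IsAffineOpen U)
    {E : X.Modules} (hE : Coh.IsCoh E) (σ : E ⟶ Coh.structureModule X)
    (hσ : ∀ x, Function.Surjective (stalkMapₗ σ x) ↔ x ∈ U) (F : X.Modules) (hF : Coh.IsCoh F) :
    ∃ (k n m : ℕ) (π : CohB1.tensorMod (CohB1.tensorMod (FlatMod.freeMod X k) (pw σ n).1) (pw σ m).1 ⟶ F),
      ∀ x ∈ U, Function.Surjective (stalkMapₗ π x) := by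
  classical
  haveI : F.IsQuasicoherent := hF.1
  haveI : QuasiCompact U.ι := by
    haveI : CompactSpace (U : Scheme.{u}) := isCompact_iff_compactSpace.mp hU.isCompact
    exact QuasiCompact.of_comp U.ι (terminal.from X)
  let N := (Scheme.Modules.pushforward U.ι).obj ((Scheme.Modules.restrictFunctor U.ι).obj F)
  haveI : ((Scheme.Modules.restrictFunctor U.ι).obj F).IsQuasicoherent := inferInstance
  haveI : N.IsQuasicoherent := QCoh.Pushforward.isQCoh_pushforward U.ι
  let η : F ⟶ N := (Scheme.Modules.restrictAdjunction U.ι).unit.app F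
  haveI := CohBasics.Closure.finite_sections (M := F) hF hU
  obtain ⟨k, g₀, hg₀⟩ := Module.Finite.exists_fin (R := Γ(X, U)) (M := Γ(F, U))
  have htopU : U.ι ''ᵁ (U.ι ⁻¹ᵁ ⊤) ≤ U := (U.ι.image_preimage_eq_opensRange_inf _).le.trans (inf_le_left.trans U.opensRange_ι.le)
  let s : Fin k → Γ(N, ⊤) := fun i => F.presheaf.map (homOfLE htopU).op (g₀ i)
  let fr := FlatMod.freeMod X k
  have hfrLF : FlatMod.IsFinLocFree fr :=
    TensorMod.LocFree.of_rank (TensorMod.LocFree.isFinLocFree_freeMod X k)
  haveI : fr.IsQuasicoherent := Modules.AffineSections.isQCoh_of_isFinLocFree hfrLF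
  let ψ : fr ⟶ N := Modules.Free.freeHom s
  have hψ : ∀ x ∈ U, Function.Surjective (stalkMapₗ ψ x) := fun x hx => by
    rw [← LinearMap.range_eq_top, eq_top_iff]
    rintro v -
    obtain ⟨w, rfl⟩ := (bijective_unit_stalk U F hx).2 v
    have hsp := CohBasics.Affine.germ_span_eq_top hU _ hg₀ hx
    induction (hsp.ge (Submodule.mem_top (x := w))) using Submodule.span_induction with
    | mem y hy =>
      obtain ⟨_, ⟨i, rfl⟩, rfl⟩ := hy
      refine ⟨gm (show x ∈ (⊤ : X.Opens) from trivial) (Modules.Free.gen X i), ?_⟩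
      refine (stalkMapₗ_germ ψ _ _).trans (Eq.trans ?_ (stalkMapₗ_germ η hx _).symm)
      rw [Modules.Free.freeHom_app_gen]
      refine (gm_rs (le_top : U ≤ ⊤) hx (s i)).symm.trans (congrArg (gm hx) ?_)
      simp only [η, Scheme.Modules.restrictAdjunction_unit_app_app]
      refine (congr($(F.presheaf.map_comp (homOfLE htopU).op
        (homOfLE (U.ι.image_mono (U.ι.preimage_mono (le_top : U ≤ ⊤)))).op) (g₀ i))).symm.trans ?_
      congr 1
    | zero => rw [map_zero]; exact zero_mem _
    | add y z _ _ hy hz => rw [map_add]; exact add_mem hy hz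
    | smul r y _ hy => rw [map_smul]; exact Submodule.smul_mem _ r hy
  let P := pullback ψ η
  haveI : P.IsQuasicoherent := isQCoh_pullback ψ η
  let g : P ⟶ fr := pullback.fst ψ η
  have hgU : ∀ x ∈ U, Function.Surjective (stalkMapₗ g x) ∧ Function.Injective (stalkMapₗ g x) :=
    fun x hx => ⟨surjective_fst ψ η (bijective_unit_stalk U F hx).2,
      injective_fst ψ η (bijective_unit_stalk U F hx).1⟩
  let C := cokernel g
  haveI : C.IsQuasicoherent := QCoh.Closure.isQCoh_cokernel g
  have hCfin : ∀ W : X.affineOpens, Module.Finite Γ(X, W.1) Γ(C, W.1) := fun W => by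
    haveI := (Modules.AffineSections.finite_projective_sections hfrLF W.2).1
    exact Module.Finite.of_surjective
      ({ toFun := (cokernel.π g).app W.1
         map_add' := map_add _
         map_smul' := fun r y => Scheme.Modules.Hom.app_smul (cokernel.π g) r y } :
        Γ(fr, W.1) →ₗ[Γ(X, W.1)] Γ(C, W.1))
      (QCoh.Closure.sections_surjective_of_epi (cokernel.π g) W.2)
  have hCU : ∀ x ∈ U, ∀ v : C.presheaf.stalk x, v = 0 := fun x hx v => by
    obtain ⟨w, rfl⟩ := (Modules.Stalk.epi_iff_stalk_surjective (cokernel.π g)).1 inferInstance x v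
    obtain ⟨p, rfl⟩ := (hgU x hx).1 w
    change stalkMapₗ (cokernel.π g) x (stalkMapₗ g x p) = 0
    rw [← LinearMap.comp_apply, ← stalkMapₗ_comp, cokernel.condition, stalkMapₗ_zero, LinearMap.zero_apply]
  obtain ⟨n, hn⟩ := exists_tmap_eq_zero U hE σ (fun x => (hσ x).1) C hCfin hCU
  let B := CohB1.tensorMod fr (pw σ n).1
  have hB : Coh.IsCoh B := isCoh_tensor (Perfect.Coherent.isCoh_freeMod X k) (isCoh_pw hE σ n)
  haveI : B.IsQuasicoherent := hB.1
  have hpw : ∀ m, ∀ x ∈ U, Function.Surjective (stalkMapₗ (pw σ m).2 x) := by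
    intro m x hx
    induction m with
    | zero =>
      change Function.Surjective (stalkMapₗ (𝟙 (Coh.structureModule X)) x)
      rw [stalkMapₗ_id]; exact Function.surjective_id
    | succ m ih =>
      change Function.Surjective (stalkMapₗ (tmap σ (𝟙 _) ≫ _ ≫ _) x)
      rw [stalkMapₗ_comp, stalkMapₗ_comp, LinearMap.coe_comp, LinearMap.coe_comp]
      exact (ih.comp ((Modules.Stalk.epi_iff_stalk_surjective
        (TensorMod.Basic.leftUnit (pw σ m).1).hom).1 inferInstance x)).comp
        (ResDescend36.Family.surjective_tmap σ _ ((hσ x).2 hx))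
  have hright : ∀ (M : X.Modules) (m : ℕ) (x : X), x ∈ U →
      Function.Surjective (stalkMapₗ (tmap (𝟙 M) (pw σ m).2 ≫ (TensorMod.Basic.rightUnit M).hom) x) := by
    intro M m x hx
    have e : tmap (𝟙 M) (pw σ m).2 = (TensorMod.Basic.comm M (pw σ m).1).hom ≫ tmap (pw σ m).2 (𝟙 M) ≫
        (TensorMod.Basic.comm M (Coh.structureModule X)).inv := by
      rw [← Category.assoc, Iso.eq_comp_inv, TensorMod.Basic.comm_natural]
    have hiso : ∀ {P R : X.Modules} (f : P ⟶ R) [IsIso f], Function.Surjective (stalkMapₗ f x) :=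
      fun f _ => (Modules.Stalk.epi_iff_stalk_surjective f).1 inferInstance x
    rw [e, stalkMapₗ_comp, stalkMapₗ_comp, stalkMapₗ_comp, LinearMap.coe_comp, LinearMap.coe_comp,
      LinearMap.coe_comp]
    exact (hiso _).comp (((hiso _).comp (ResDescend36.Family.surjective_tmap _ M (hpw m x hx))).comp (hiso _))
  let u : B ⟶ fr := tmap (𝟙 fr) (pw σ n).2 ≫ (TensorMod.Basic.rightUnit fr).hom
  have hu0 : u ≫ cokernel.π g = 0 := by
    simp only [u, Category.assoc, ← TensorMod.Basic.rightUnit_natural (cokernel.π g)]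
    rw [← Category.assoc, ← TensorMod.Basic.tmap_comp, Category.id_comp, Category.comp_id,
      show tmap (cokernel.π g) (pw σ n).2 = tmap (cokernel.π g) (𝟙 _) ≫ tmap (𝟙 C) (pw σ n).2 by
        rw [← TensorMod.Basic.tmap_comp, Category.comp_id, Category.id_comp],
      hn, comp_zero, zero_comp]
  let u' : B ⟶ Abelian.image g := kernel.lift _ u hu0
  haveI : (Abelian.image g).IsQuasicoherent := QCoh.Closure.isQCoh_kernel (cokernel.π g)
  let e := Abelian.factorThruImage g
  let Q := pullback u' e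
  haveI : Q.IsQuasicoherent := isQCoh_pullback u' e
  let p : Q ⟶ B := pullback.fst u' e
  haveI : Epi p := inferInstanceAs (Epi (pullback.fst u' e))
  -- a finite type piece of `Q` onto `B`
  have hfin : ∀ W : X.affineOpens, ∃ (r : ℕ) (t : Fin r → Γ(Q, W.1)),
      Submodule.span Γ(X, W.1) (Set.range fun i => p.app W.1 (t i)) = ⊤ := fun W => by
    haveI := CohBasics.Closure.finite_sections (M := B) hB W.2
    obtain ⟨r, b, hb⟩ := Module.Finite.exists_fin (R := Γ(X, W.1)) (M := Γ(B, W.1))
    choose t ht using fun i => QCoh.Closure.sections_surjective_of_epi p W.2 (b i)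
    exact ⟨r, t, by rw [funext ht]; exact hb⟩
  choose r t ht using hfin
  obtain ⟨sW, hsW, hcov⟩ := isCompact_and_isOpen_iff_finite_and_eq_biUnion_affineOpens.mp
    (⟨isCompact_univ, isOpen_univ⟩ : IsCompact (Set.univ : Set X) ∧ IsOpen (Set.univ : Set X))
  obtain ⟨S, hS, hmem⟩ := ResDescend36.Affine.exists_family_finset Q hsW.toFinset r t
  let Q' := subMod S
  haveI : Q'.IsQuasicoherent := isQCoh_subMod hS
  let p' : Q' ⟶ B := ι S ≫ p
  haveI : Epi p' := by
    refine (Modules.Stalk.epi_iff_stalk_surjective p').2 fun y (v : B.presheaf.stalk y) => ?_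
    obtain ⟨W, hW, hyW⟩ := Set.mem_iUnion₂.mp (hcov ▸ Set.mem_univ y)
    have htop := CohBasics.Affine.germ_span_eq_top W.2 _ (ht W) hyW
    suffices hr : Submodule.span (X.presheaf.stalk y)
        (B.presheaf.germ W.1 y hyW '' Set.range fun i => p.app W.1 (t W i)) ≤
          LinearMap.range (stalkMapₗ p' y) from hr (htop.ge (Submodule.mem_top (x := v)))
    rw [Submodule.span_le]
    rintro _ ⟨_, ⟨i, rfl⟩, rfl⟩
    obtain ⟨y', hy'⟩ := exists_ι_app (hmem W (hsW.mem_toFinset.2 hW) i)
    refine ⟨Q'.presheaf.germ W.1 y hyW y', (stalkMapₗ_germ p' hyW _).trans ?_⟩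
    exact congrArg (gm hyW) (congrArg (p.app W.1) hy')
  let K := kernel p'
  haveI : K.IsQuasicoherent := QCoh.Closure.isQCoh_kernel p'
  have hKfin : ∀ W : X.affineOpens, Module.Finite Γ(X, W.1) Γ(K, W.1) := fun W => by
    haveI : Module.Finite Γ(X, W.1) Γ(Q', W.1) :=
      CohBasics.Closure.finite_sections (M := Q') ⟨isQCoh_subMod hS, isFT_subMod hS⟩ W.2
    haveI : IsNoetherianRing Γ(X, W.1) := IsLocallyNoetherian.component_noetherian W
    let kl : Γ(K, W.1) →ₗ[Γ(X, W.1)] Γ(Q', W.1) :=
      { toFun := (kernel.ι p').app W.1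
        map_add' := map_add _
        map_smul' := fun r y => Scheme.Modules.Hom.app_smul (kernel.ι p') r y }
    exact Module.Finite.of_injective kl (QCoh.Closure.sections_injective_of_mono (kernel.ι p') W.1)
  have heU : ∀ x ∈ U, Function.Injective (stalkMapₗ e x) := fun x hx => by
    intro v w h
    refine (hgU x hx).2 ?_
    have hg : g = e ≫ Abelian.image.ι g := (Abelian.image.fac g).symm
    rw [hg, stalkMapₗ_comp, LinearMap.comp_apply, LinearMap.comp_apply, h]
  have hKU : ∀ x ∈ U, ∀ v : K.presheaf.stalk x, v = 0 := fun x hx v => by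
    have h1 : stalkMapₗ p x (stalkMapₗ (ι S) x (stalkMapₗ (kernel.ι p') x v)) = 0 := by
      rw [← LinearMap.comp_apply, ← stalkMapₗ_comp, ← LinearMap.comp_apply, ← stalkMapₗ_comp]
      change stalkMapₗ (kernel.ι p' ≫ p') x v = 0
      rw [kernel.condition, stalkMapₗ_zero, LinearMap.zero_apply]
    have h2 := injective_fst u' e (heU x hx) (h1.trans (map_zero _).symm)
    have h3 := (Modules.Stalk.mono_iff_stalk_injective (ι S)).1 inferInstance x (h2.trans (map_zero _).symm)
    exact (Modules.Stalk.mono_iff_stalk_injective (kernel.ι p')).1 inferInstance x (h3.trans (map_zero _).symm)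
  obtain ⟨m, hm⟩ := exists_tmap_eq_zero U hE σ (fun x => (hσ x).1) K hKfin hKU
  let μ : CohB1.tensorMod Q' (pw σ m).1 ⟶ Q' :=
    tmap (𝟙 Q') (pw σ m).2 ≫ (TensorMod.Basic.rightUnit Q').hom
  let T := TensorMod.Basic.tensorBy (pw σ m).1
  have hμ : T.map (kernel.ι p') ≫ μ = 0 := by
    change tmap (kernel.ι p') (𝟙 _) ≫ μ = 0
    simp only [μ]
    rw [← Category.assoc, ← TensorMod.Basic.tmap_comp, Category.comp_id, Category.id_comp,
      show tmap (kernel.ι p') (pw σ m).2 = tmap (𝟙 K) (pw σ m).2 ≫ tmap (kernel.ι p') (𝟙 _) by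
        rw [← TensorMod.Basic.tmap_comp, Category.comp_id, Category.id_comp],
      hm, zero_comp, zero_comp]
  haveI : PreservesFiniteColimits T := PreservesColimitsOfSize.preservesFiniteColimits _
  have hcok := CokernelCofork.mapIsColimit _
    ((ShortComplex.exact_of_f_is_kernel (ShortComplex.mk (kernel.ι p') p' (kernel.condition p'))
      (kernelIsKernel p')).gIsCokernel) T
  let lam : T.obj B ⟶ Q' := hcok.desc (CokernelCofork.ofπ μ hμ)
  have hlam : T.map p' ≫ lam = μ := hcok.fac (CokernelCofork.ofπ μ hμ) WalkingParallelPair.one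
  refine ⟨k, n, m, lam ≫ ι S ≫ pullback.snd u' e ≫ pullback.snd ψ η, fun x hx => ?_⟩
  have hlamx : Function.Surjective (stalkMapₗ lam x) := by
    refine ResDescend36.Family.surjective_of_comp (T.map p') lam ?_
    rw [hlam]
    exact hright Q' m x hx
  have hιS : Function.Surjective (stalkMapₗ (ι S) x) := fun q => by
    obtain ⟨y, hy⟩ := (Modules.Stalk.epi_iff_stalk_surjective p').1 inferInstance x (stalkMapₗ p x q)
    refine ⟨y, injective_fst u' e (heU x hx) ?_⟩
    exact (LinearMap.congr_fun (stalkMapₗ_comp (ι S) p x) y).symm.trans hy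
  have hu'x : Function.Surjective (stalkMapₗ u' x) := fun v => by
    obtain ⟨w, hw⟩ := hright fr n x hx (stalkMapₗ (Abelian.image.ι g) x v)
    refine ⟨w, (Modules.Stalk.mono_iff_stalk_injective (Abelian.image.ι g)).1 inferInstance x ?_⟩
    change stalkMapₗ (Abelian.image.ι g) x (stalkMapₗ u' x w) = stalkMapₗ (Abelian.image.ι g) x v
    rw [← LinearMap.comp_apply, ← stalkMapₗ_comp, kernel.lift_ι]
    exact hw
  have key : Function.Surjective (stalkMapₗ (lam ≫ ι S ≫ pullback.snd u' e ≫ pullback.snd ψ η) x) := by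
    rw [stalkMapₗ_comp, stalkMapₗ_comp, stalkMapₗ_comp, LinearMap.coe_comp, LinearMap.coe_comp,
      LinearMap.coe_comp]
    exact (((surjective_snd ψ η (hψ x hx)).comp (surjective_snd u' e hu'x)).comp hιS).comp hlamx
  exact key

end

end Groth.Agent.H18.TPowGen
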