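import Groth.Agent.H18.TPowGen.Boundary
import Groth.Agent.Lib.Ample.Pow
import Groth.Agent.Lib.ClSub.Quot
import Groth.Agent.Lib.Ample.QAffCrit
import Groth.Agent.Lib.ResDescend36.Affine
import Groth.Agent.Lib.ZarCoh.FP
import Groth.Agent.H46.FibreProf.PullFP
import Groth.Agent.Lib.Lim.Approx.Main

/-!
# A finitely presented module whose tensor powers generate
-/

set_option autoImplicit false
set_option linter.style.haveILetI false
set_option backward.isDefEq.respectTransparency false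
universe u

open CategoryTheory CategoryTheory.Limits AlgebraicGeometry Opposite TopologicalSpace
open Groth.Agent.Lib Groth.Agent.Lib.Modules.StalkModule Groth.Agent.Lib.Modules.SubStalk
open Groth.Agent.Lib.TensorMod.Basic (tmap tensorIso)
open Groth.Agent.Lib.ResDescend36.Boundary (pw)

namespace Groth.Agent.H18.TPowGen

noncomputable section

variable {X : Scheme.{u}}

lemma surj_of_iso {A B : X.Modules} (f : A ⟶ B) [IsIso f] (x : X) :
    Function.Surjective (stalkMapₗ f x) :=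
  (Modules.Stalk.epi_iff_stalk_surjective f).1 inferInstance x

lemma epi_iso {A B : X.Modules} (e : A ≅ B) : Epi e.hom := inferInstance

lemma surj_comp {A B C : X.Modules} (f : A ⟶ B) (g : B ⟶ C) (x : X)
    (hf : Function.Surjective (stalkMapₗ f x)) (hg : Function.Surjective (stalkMapₗ g x)) :
    Function.Surjective (stalkMapₗ (f ≫ g) x) :=
  ResDescend36.Family.stalkMapₗ_comp_surjective f g hf hg

lemma epi_tmap {A B C D : X.Modules} (f : A ⟶ B) (g : C ⟶ D) [Epi f] [Epi g] : Epi (tmap f g) := by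
  refine (Modules.Stalk.epi_iff_stalk_surjective _).2 fun x => ?_
  have e : tmap f g = tmap f (𝟙 C) ≫ (TensorMod.Basic.comm B C).hom ≫ tmap g (𝟙 B) ≫
      (TensorMod.Basic.comm B D).inv := by
    rw [← Category.assoc (TensorMod.Basic.comm B C).hom, ← TensorMod.Basic.comm_natural, Category.assoc,
      Iso.hom_inv_id, Category.comp_id, ← TensorMod.Basic.tmap_comp, Category.comp_id, Category.id_comp]
  rw [e]
  refine surj_comp _ _ x (ResDescend36.Family.surjective_tmap f C
    ((Modules.Stalk.epi_iff_stalk_surjective f).1 inferInstance x)) ?_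
  refine surj_comp _ _ x (surj_of_iso _ x) (surj_comp _ _ x ?_ (surj_of_iso _ x))
  exact ResDescend36.Family.surjective_tmap g B ((Modules.Stalk.epi_iff_stalk_surjective g).1 inferInstance x)

/-- An ideal module surjects onto `O` exactly off the support. -/
lemma surjective_idealModι_iff (K : X.IdealSheafData) (x : X) :
    Function.Surjective (stalkMapₗ (_root_.ClSub.idealModι K) x) ↔ x ∉ (K.support : Set X) := by
  rw [← ClSub.Quot.support_quotMod, Modules.Support.not_mem_support_iff]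
  have hS := ClSub.Quot.idealSeq_shortExact K
  have hx := (Modules.Stalk.shortExact_iff_stalk _).1 hS x
  have hex : Function.Exact (stalkMapₗ (_root_.ClSub.idealModι K) x) (stalkMapₗ (_root_.ClSub.toSubscheme K) x) :=
    (ShortComplex.ab_exact_iff_function_exact _).mp hx.exact
  have hsur : Function.Surjective (stalkMapₗ (_root_.ClSub.toSubscheme K) x) :=
    (AddCommGrpCat.epi_iff_surjective _).mp hx.epi_g
  constructor
  · intro h
    refine ⟨fun a b => ?_⟩
    obtain ⟨a', rfl⟩ := hsur a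
    obtain ⟨b', rfl⟩ := hsur b
    obtain ⟨a'', rfl⟩ := h a'
    obtain ⟨b'', rfl⟩ := h b'
    exact ((hex _).2 ⟨a'', rfl⟩).trans ((hex _).2 ⟨b'', rfl⟩).symm
  · intro h v
    exact (hex v).1 (@Subsingleton.elim _ h _ _)

lemma isCoh_idealMod [IsLocallyNoetherian X] (K : X.IdealSheafData) : Coh.IsCoh (_root_.ClSub.idealMod K) := by
  haveI := Ample.QAffCrit.isQCoh_idealMod K
  refine CohBasics.Closure.isCoh_of_finite_sections fun W hW => ?_
  haveI : IsNoetherianRing Γ(X, W) := IsLocallyNoetherian.component_noetherian ⟨W, hW⟩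
  haveI : Mono (_root_.ClSub.idealModι K) := (ClSub.Quot.idealSeq_shortExact K).mono_f
  let f : Γ(_root_.ClSub.idealMod K, W) →ₗ[Γ(X, W)] Γ(X, W) :=
    { toFun := fun t => ((_root_.ClSub.idealModι K).app W t : Γ(X, W))
      map_add' := fun s t => map_add _ s t
      map_smul' := fun c t => Scheme.Modules.Hom.app_smul _ c t }
  exact Module.Finite.of_injective f ((Modules.Stalk.mono_iff_app_injective _).1 inferInstance W)

/-- The functional cutting out an open. -/
lemma exists_functional [IsLocallyNoetherian X] (U : X.Opens) :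
    ∃ (E : X.Modules) (σ : E ⟶ Coh.structureModule X), Coh.IsCoh E ∧
      ∀ x, Function.Surjective (stalkMapₗ σ x) ↔ x ∈ U := by
  let Z : TopologicalSpace.Closeds X := ⟨(U : Set X)ᶜ, U.isOpen.isClosed_compl⟩
  refine ⟨_, _root_.ClSub.idealModι (Scheme.IdealSheafData.vanishingIdeal Z), isCoh_idealMod _,
    fun x => ?_⟩
  rw [surjective_idealModι_iff, Scheme.IdealSheafData.coe_support_vanishingIdeal]
  simp [Z]

/-- A coherent module dominating `O` and finitely many given coherent modules. -/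
lemma exists_dominating (s : Finset X.affineOpens) (E : X.affineOpens → X.Modules) (hE : ∀ U, Coh.IsCoh (E U)) :
    ∃ F : X.Modules, Coh.IsCoh F ∧ (∃ f : F ⟶ Coh.structureModule X, Epi f) ∧
      ∀ U ∈ s, ∃ f : F ⟶ E U, Epi f := by
  classical
  induction s using Finset.induction with
  | empty => exact ⟨_, isCoh_structure, ⟨𝟙 _, inferInstance⟩, by simp⟩
  | @insert a s ha ih =>
    obtain ⟨F, hF, ⟨f₀, hf₀⟩, hf⟩ := ih
    refine ⟨F ⊞ E a, CohBasics.Closure.isCoh_biprod hF (hE a), ⟨biprod.fst ≫ f₀, inferInstance⟩,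
      fun U hU => ?_⟩
    rcases Finset.mem_insert.1 hU with rfl | hU
    · exact ⟨biprod.snd, inferInstance⟩
    · obtain ⟨f, hf'⟩ := hf U hU
      exact ⟨biprod.fst ≫ f, inferInstance⟩

/-- Tensor powers reach the powers of a functional. -/
lemma exists_epi_pw {F E : X.Modules} (σ : E ⟶ Coh.structureModule X) (f₀ : F ⟶ Coh.structureModule X)
    [Epi f₀] (f : F ⟶ E) [Epi f] :
    ∀ j n, n ≤ j → ∃ q : CohB1.tensorPow F j ⟶ (pw σ n).1, Epi q := by
  intro j
  induction j with
  | zero =>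
    intro n hn
    obtain rfl : n = 0 := by omega
    exact ⟨(𝟙 _ : Coh.structureModule X ⟶ Coh.structureModule X),
      inferInstanceAs (Epi (𝟙 (Coh.structureModule X)))⟩
  | succ j ih =>
    intro n hn
    rcases n with _ | n
    · obtain ⟨q, hq⟩ := ih 0 (Nat.zero_le j)
      exact ⟨tmap q f₀ ≫ (TensorMod.Basic.rightUnit (Coh.structureModule X)).hom,
        epi_comp' (epi_tmap q f₀) (epi_iso _)⟩
    · obtain ⟨q, hq⟩ := ih n (by omega)
      exact ⟨tmap q f ≫ (TensorMod.Basic.comm (pw σ n).1 E).hom, epi_comp' (epi_tmap q f) (epi_iso _)⟩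

/-- `⊕ T` maps onto `O^k ⊗ T`. -/
lemma exists_epi_freeMod_tensor (k : ℕ) (T : X.Modules) :
    ∃ q : (∐ fun _ : Fin k => T) ⟶ CohB1.tensorMod (FlatMod.freeMod X k) T, Epi q := by
  let G := TensorMod.Basic.tensorBy T
  haveI : PreservesColimitsOfShape (Discrete (Fin k)) G :=
    PreservesColimitsOfSize.preservesFiniteColimits G |>.preservesFiniteColimits _
  haveI hiso : IsIso (sigmaComparison G (fun _ : Fin k => Coh.structureModule X)) := inferInstance
  exact ⟨(Sigma.mapIso fun _ => (TensorMod.Basic.leftUnit T).symm).hom ≫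
    sigmaComparison G (fun _ : Fin k => Coh.structureModule X), epi_comp' (epi_iso _) (epi_iso (@asIso _ _ _ _ _ hiso))⟩

/-- On a Noetherian scheme. -/
theorem exists_coh [IsNoetherian X] :
    ∃ F : X.Modules, Coh.IsCoh F ∧ ∀ G : X.Modules, Coh.IsCoh G →
      ∃ n₀ m₀ : ℕ, ∀ n m : ℕ, n₀ ≤ n → m₀ ≤ m →
        ∃ π : (∐ fun _ : Fin m => CohB1.tensorPow F n) ⟶ G, Epi π := by
  classical
  obtain ⟨s, hs, hcov⟩ := isCompact_and_isOpen_iff_finite_and_eq_biUnion_affineOpens.mp
    (⟨isCompact_univ, isOpen_univ⟩ : IsCompact (Set.univ : Set X) ∧ IsOpen (Set.univ : Set X))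
  choose E σ hE hσ using fun U : X.affineOpens => exists_functional (X := X) U.1
  obtain ⟨F, hF, ⟨f₀, hf₀⟩, hf⟩ := exists_dominating hs.toFinset E hE
  refine ⟨F, hF, fun G hG => ?_⟩
  choose k a b π hπ using fun U : X.affineOpens => exists_surjective_on' U.2 (hE U) (σ U) (hσ U) G hG
  refine ⟨hs.toFinset.sup fun U => a U + b U, ∑ U ∈ hs.toFinset, k U, fun n m hn hm => ?_⟩
  let P := CohB1.tensorPow F n
  have hreach : ∀ U : hs.toFinset, ∃ q : (∐ fun _ : Fin (k U.1) => P) ⟶ G,
      ∀ x ∈ U.1.1, Function.Surjective (stalkMapₗ q x) := fun U => by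
    obtain ⟨f, hf'⟩ := hf U.1 U.2
    have hle : a U.1 + b U.1 ≤ n := (Finset.le_sup (f := fun U => a U + b U) U.2).trans hn
    obtain ⟨q₁, hq₁⟩ := exists_epi_pw (σ U.1) f₀ f (a U.1) (a U.1) le_rfl
    obtain ⟨q₂, hq₂⟩ := exists_epi_pw (σ U.1) f₀ f (n - a U.1) (b U.1) (by omega)
    haveI := epi_tmap q₁ q₂
    let r : P ⟶ CohB1.tensorMod (pw (σ U.1) (a U.1)).1 (pw (σ U.1) (b U.1)).1 :=
      ((Ample.Pow.powCongr F (show n = a U.1 + (n - a U.1) by omega)) ≪≫
        Ample.Pow.powAdd F (a U.1) (n - a U.1)).hom ≫ tmap q₁ q₂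
    haveI : Epi r := epi_comp _ _
    obtain ⟨q, hq⟩ := exists_epi_freeMod_tensor (X := X) (k U.1)
      (CohB1.tensorMod (pw (σ U.1) (a U.1)).1 (pw (σ U.1) (b U.1)).1)
    haveI : Epi (Limits.Sigma.map fun _ : Fin (k U.1) => r) := inferInstance
    refine ⟨Limits.Sigma.map (fun _ => r) ≫ q ≫ (TensorMod.Basic.assoc _ _ _).inv ≫ π U.1,
      fun x hx => ?_⟩
    exact surj_comp _ _ x ((Modules.Stalk.epi_iff_stalk_surjective _).1 inferInstance x)
      (surj_comp _ _ x ((Modules.Stalk.epi_iff_stalk_surjective q).1 hq x)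
        (surj_comp _ _ x (surj_of_iso _ x) (hπ U.1 x hx)))
  choose q hq using hreach
  let φ : (Σ U : hs.toFinset, Fin (k U.1)) → (P ⟶ G) := fun i => Sigma.ι (fun _ => P) i.2 ≫ q i.1
  have hc : Fintype.card (Σ U : hs.toFinset, Fin (k U.1)) ≤ Fintype.card (Fin m) := by
    rw [Fintype.card_sigma, Fintype.card_fin]
    simp only [Fintype.card_fin]
    rw [Finset.sum_coe_sort hs.toFinset k]
    exact hm
  obtain ⟨e⟩ := Function.Embedding.nonempty_of_card_le hc
  let φ' : Fin m → (P ⟶ G) := Function.extend e φ 0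
  refine ⟨Sigma.desc φ', (Modules.Stalk.epi_iff_stalk_surjective _).2 fun x => ?_⟩
  obtain ⟨U, hU, hxU⟩ := Set.mem_iUnion₂.mp (hcov ▸ Set.mem_univ x)
  let U' : hs.toFinset := ⟨U, hs.mem_toFinset.2 hU⟩
  refine ResDescend36.Family.surjective_of_comp
    (Sigma.desc fun j => Sigma.ι (fun _ : Fin m => P) (e ⟨U', j⟩)) (Sigma.desc φ') ?_
  rw [show Sigma.desc (fun j => Sigma.ι (fun _ : Fin m => P) (e ⟨U', j⟩)) ≫ Sigma.desc φ' = q U' from
    Sigma.hom_ext _ _ fun j => by
      rw [Sigma.ι_desc_assoc, Sigma.ι_desc]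
      exact congrFun (Function.extend_comp e.injective φ 0) ⟨U', j⟩]
  exact hq U' x hxU

/-- The general case. -/
theorem main (X : Scheme.{u}) [CompactSpace X] [QuasiSeparatedSpace X] :
    ∃ F : X.Modules, Coh.IsQCoh F ∧ CohB1.IsFP F ∧
      ∀ M : X.Modules, Coh.IsQCoh M → CohB1.IsFP M →
        ∃ n₀ m₀ : ℕ, ∀ n m : ℕ, n₀ ≤ n → m₀ ≤ m →
          ∃ π : (∐ fun _ : Fin m => CohB1.tensorPow F n) ⟶ M, Epi π := by
  obtain ⟨A⟩ := Groth.Agent.Lib.Lim.Approx.Main.exists_approx (S := X)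
  obtain ⟨i⟩ := A.ne
  haveI := A.dir
  haveI := A.ne
  haveI : ∀ {a b} (f : a ⟶ b), IsAffineHom (A.D.map f) := fun f => A.affine f
  haveI : IsAffineHom (A.pr i) := isAffineHom_π_app A.D A.cone A.isLimit (op i)
  let Y := A.D.obj (op i)
  let f : X ⟶ Y := A.pr i
  haveI : CompactSpace Y := A.compact (op i)
  haveI : LocallyOfFiniteType (Limits.IsTerminal.from specULiftZIsTerminal Y) := A.lft (op i)
  haveI : IsNoetherianRing (ULift.{u} ℤ) := isNoetherianRing_of_ringEquiv ℤ ULift.ringEquiv.symm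
  haveI : IsLocallyNoetherian (Spec (CommRingCat.of (ULift.{u} ℤ))) := inferInstance
  haveI : IsLocallyNoetherian Y :=
    LocallyOfFiniteType.isLocallyNoetherian (Limits.IsTerminal.from specULiftZIsTerminal Y)
  haveI : IsNoetherian Y := ⟨⟩
  obtain ⟨F₀, hF₀, hgen⟩ := exists_coh (X := Y)
  haveI : F₀.IsQuasicoherent := hF₀.1
  refine ⟨(Scheme.Modules.pullback f).obj F₀, QCoh.Pullback.isQCoh_pullback f F₀,
    H46.FibreProf.PullFP.isFP_pullback f F₀ (ZarCoh.FP.isFP_of_isCoh F₀ hF₀), fun M hMq hMfp => ?_⟩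
  haveI : M.IsQuasicoherent := hMq
  haveI : SheafOfModules.IsFinitePresentation (R := X.ringCatSheaf) M := hMfp
  have hMft : SheafOfModules.IsFiniteType (R := X.ringCatSheaf) M := by
    obtain ⟨q, hq⟩ := hMfp.exists_quasicoherentData
    exact SheafOfModules.IsFiniteType.mk.{u} ⟨q.localGeneratorsData, by haveI := hq; infer_instance⟩
  have hMc : Coh.IsCoh M := ⟨hMq, hMft⟩
  let N := (Scheme.Modules.pushforward f).obj M
  haveI : N.IsQuasicoherent := QCoh.Pushforward.isQCoh_pushforward f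
  have hfin : ∀ V : Y.affineOpens, ∃ (n : ℕ) (t : Fin n → Γ(M, f ⁻¹ᵁ V.1)),
      Submodule.span Γ(X, f ⁻¹ᵁ V.1) (Set.range t) = ⊤ := fun V => by
    haveI := CohBasics.Closure.finite_sections (M := M) hMc (V.2.preimage f)
    exact Module.Finite.exists_fin
  choose n t ht using hfin
  obtain ⟨s, hs, hcov⟩ := isCompact_and_isOpen_iff_finite_and_eq_biUnion_affineOpens.mp
    (⟨isCompact_univ, isOpen_univ⟩ : IsCompact (Set.univ : Set Y) ∧ IsOpen (Set.univ : Set Y))
  obtain ⟨S, hS, hmem⟩ := ResDescend36.Affine.exists_family_finset N hs.toFinset n t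
  let adj := Scheme.Modules.pullbackPushforwardAdjunction f
  let c : (Scheme.Modules.pullback f).obj (subMod S) ⟶ M := (adj.homEquiv _ _).symm (ι S)
  haveI : Epi c := by
    refine (Modules.Stalk.epi_iff_stalk_surjective c).2 fun x (v : M.presheaf.stalk x) => ?_
    obtain ⟨V, hV, hxV⟩ := Set.mem_iUnion₂.mp (hcov ▸ Set.mem_univ (f x))
    have htop := CohBasics.Affine.germ_span_eq_top (V.2.preimage f) _ (ht V) hxV
    suffices hr : Submodule.span (X.presheaf.stalk x)
        (M.presheaf.germ (f ⁻¹ᵁ V.1) x hxV '' Set.range (t V)) ≤ LinearMap.range (stalkMapₗ c x) by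
      obtain ⟨w, hw⟩ := hr (htop.ge (Submodule.mem_top (x := v)))
      exact ⟨w, hw⟩
    rw [Submodule.span_le]
    rintro _ ⟨_, ⟨i, rfl⟩, rfl⟩
    obtain ⟨g, hg⟩ := exists_ι_app (hmem V (hs.mem_toFinset.2 hV) i)
    refine ⟨((Scheme.Modules.pullback f).obj (subMod S)).presheaf.germ (f ⁻¹ᵁ V.1) x hxV
      ((adj.unit.app (subMod S)).app V.1 g), ?_⟩
    refine (stalkMapₗ_germ c hxV _).trans ?_
    congr 1
    refine Eq.trans ?_ hg
    exact congrArg (fun φ : subMod S ⟶ N => φ.app V.1 g)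
      ((adj.homEquiv_unit _ _ c).symm.trans ((adj.homEquiv _ _).apply_symm_apply (ι S)))
  obtain ⟨n₀, m₀, hh⟩ := hgen (subMod S) ⟨isQCoh_subMod hS, isFT_subMod hS⟩
  refine ⟨n₀, m₀, fun a b ha hb => ?_⟩
  obtain ⟨π, hπ⟩ := hh a b ha hb
  let P := Scheme.Modules.pullback f
  haveI : P.IsLeftAdjoint := ⟨_, ⟨adj⟩⟩
  haveI : Epi (P.map π) := inferInstance
  exact ⟨(Sigma.mapIso fun _ => (Ample.Pow.pullbackPow f F₀ a).symm).hom ≫
    sigmaComparison P (fun _ : Fin b => CohB1.tensorPow F₀ a) ≫ P.map π ≫ c, inferInstance⟩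

end

end Groth.Agent.H18.TPowGen
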